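import Cfsg.Agent.Omega.KL.StarQ.OddN

/-!
# LEMMA ZC+ (bb #24701): the end over `LB` with bad parabolics which normalise `Y`

* `norm_one` : `w ∈ [Y ∩ U, D]` fixed by `D` is trivial, `D` acting on `U` as a group of odd order;
* **`exists_of_coreN`** : `SysT`, with `O(H') = 1`.
-/

set_option autoImplicit false

namespace Cfsg.Agent.Omega.KL.StarQ

open Subgroup Cfsg Cfsg.Agent.ZN Cfsg.Agent.ClassTwoFusion.Quad
open Cfsg.Agent.Omega.ML.MinFrame hiding comm_of_sq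
open Cfsg.Agent.Omega.ML.Final Cfsg.Agent.Omega.NO3S.EMany.Low
open Cfsg.Agent.Omega.KL.Star.Core
open Cfsg.Agent.MinSimple.VModule (o2_isPGroup o2_le le_o2 le_normalizer_o2 o2_le_of_sylow oddGen oddGen_le oddGen_def)
open Cfsg.Agent.MinSimple.MinParabolic (IsMinPar le_of_forall)

universe u v w

/-- `D` acts on `U` through `π`, with `π(D)` of odd order: a vector of `[U, D]` fixed by `D` is trivial -/
theorem norm_one {H : Type u} [Group H] {H' : Type w} [Group H'] [Finite H'] {M : Type v} [Group M]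
    [MulDistribMulAction H M] (sq : ∀ m : M, m * m = 1) (π : H →* H') {D : Subgroup H} {U : Subgroup M}
    (hU : ∀ k ∈ π.ker, ∀ m ∈ U, k • m = m)
    (hodd : Odd (Nat.card (D.map π))) {E : Set M} (hE : ∀ m ∈ E, m ∈ U) {m : M}
    (hm : m ∈ closure {w : M | ∃ g ∈ D, ∃ y ∈ E, w = (g • y) * y⁻¹}) (hf : ∀ g ∈ D, g • m = m) : m = 1 := by
  classical
  let _ : CommGroup M := { (inferInstance : Group M) with mul_comm := comm_of_sq sq }
  have : Fintype (D.map π) := Fintype.ofFinite _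
  choose s hsD hsπ using fun κ : D.map π => κ.2
  -- the norm
  let ν : M →* M :=
    { toFun := fun m => ∏ κ : D.map π, s κ • m
      map_one' := by simp
      map_mul' := fun a b => by
        simp only [smul_mul']
        exact Finset.prod_mul_distrib }
  have hν : ∀ g ∈ D, ∀ m ∈ U, ν (g • m) = ν m := by
    intro g hg m hm
    change ∏ κ : D.map π, s κ • (g • m) = ∏ κ : D.map π, s κ • m
    refine Fintype.prod_equiv (Equiv.mulRight (⟨π g, g, hg, rfl⟩ : D.map π)) _ _ fun κ => ?_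
    have h1 : (s (κ * ⟨π g, g, hg, rfl⟩))⁻¹ * (s κ * g) ∈ π.ker := by
      rw [MonoidHom.mem_ker, map_mul, map_inv, map_mul, hsπ, hsπ]
      change (((κ : H') * π g)⁻¹ * ((κ : H') * π g)) = 1
      exact inv_mul_cancel _
    have h2 := hU _ h1 m hm
    rw [mul_smul, inv_smul_eq_iff, mul_smul] at h2
    exact h2
  have h1 : ν m = 1 := by
    have h2 : closure {w : M | ∃ g ∈ D, ∃ y ∈ E, w = (g • y) * y⁻¹} ≤ ν.ker := by
      rw [closure_le]
      rintro _ ⟨k, hk, y, hy, rfl⟩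
      change ν (k • y * y⁻¹) = 1
      rw [map_mul, map_inv, hν k hk y (hE y hy), mul_inv_cancel]
    exact h2 hm
  have h5 : ν m = m ^ Nat.card (D.map π) := by
    have h6 : ∀ κ : D.map π, s κ • m = m := fun κ => hf _ (hsD κ)
    change ∏ κ : D.map π, s κ • m = _
    simp only [h6]
    rw [Finset.prod_const, Finset.card_univ, Nat.card_eq_fintype_card]
  rw [h1] at h5
  obtain ⟨k, hk⟩ := hodd
  rw [hk, pow_succ, pow_mul, pow_two, sq, one_pow, one_mul] at h5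
  exact h5.symm

section

variable {H : Type u} [Group H] [Finite H] {M : Type v} [Group M] [Finite M] [MulDistribMulAction H M]
  {T A : Subgroup H}

/-- **LEMMA ZC+: the end over `LB`** -/
theorem exists_of_coreN (h : LB H M T A) (hM : MLK.{u, v}) {x : M} (tx : ∀ t ∈ T, t • x = x)
    {Y : Subgroup M} (NY : ∀ g ∈ normalizer (T : Set H), ∀ w ∈ Y, g • w ∈ Y)
    (cY : ∀ w ∈ Y, (∀ t ∈ T, t • w = w) → ∀ g : H, g • w = w)
    (hY : ¬ ∀ g : H, Odd (orderOf g) → ∀ w ∈ Y, g • w = w)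
    (par : ∀ P : Subgroup H, IsMinPar T P → (∀ p ∈ P, p • x = x) ∨
      (∀ g ∈ P, Odd (orderOf g) → ∀ w ∈ Y, g • w = w) ∨ (A ≤ o2 P ∧ ∀ p ∈ P, ∀ w ∈ Y, p • w ∈ Y))
    (mv : ∃ P : Subgroup H, T ≤ P ∧ (∃ p ∈ P, p • x ≠ x) ∧ ∀ g ∈ P, Odd (orderOf g) → ∀ w ∈ Y, g • w = w) :
    ∃ (H' : Type u) (_ : Group H') (_ : Finite H') (N : Type v) (_ : Group N) (_ : Finite N)
      (_ : MulDistribMulAction H' N) (T' A' : Subgroup H') (x' y' : N), ML.Ex.Two.SysT H' N T' A' x' y' := by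
  have hx : ¬ ∀ g : H, g • x = x := by
    obtain ⟨P, -, ⟨p, -, hp⟩, -⟩ := mv
    exact fun hc => hp (hc p)
  have TY : ∀ t ∈ T, ∀ w ∈ Y, t • w ∈ Y := fun t ht => NY t (le_normalizer ht)
  obtain ⟨N, i1, i2, i3, A', x', u', c⟩ := core h hM tx hx TY hY
  -- a good `P` fixes `u'`
  have hgood : ∀ P : Subgroup H, T ≤ P → (∀ g ∈ P, Odd (orderOf g) → ∀ w ∈ Y, g • w = w) → ∀ p ∈ P, p • u' = u' := by
    intro P hTP h2
    have h3 : oddGen P ⊔ T = P := oddGen_sup hTP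
      fun h2 => h.syl (h2.trans (relIndex_dvd_index_of_le hTP))
    have h4 : P ≤ MulAction.stabilizer H u' := by
      rw [← h3]
      refine sup_le ?_ fun t ht => c.tu t ht
      rw [oddGen_def, closure_le]
      rintro g ⟨hgP, hgo⟩
      exact c.su g hgo fun w hw => h2 g hgP hgo w hw
    exact fun p hp => h4 hp
  obtain ⟨P₀, hTP₀, ⟨p, hp, hpx⟩, hP₀⟩ := mv
  have hPx' : ∃ p ∈ P₀, p • x' ≠ x' := by
    by_contra hc
    push Not at hc
    exact hpx ((c.sx P₀ hTP₀).1 hc p hp)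
  have hPu : ∀ p ∈ P₀, p • u' = u' := hgood P₀ hTP₀ hP₀
  -- shift
  obtain ⟨x1, hx1, hxs⟩ := c.lb.shift c.tx
  obtain ⟨u1, hu1, hus⟩ := c.lb.shift c.tu
  have tx1 : ∀ t ∈ T, t • x1 = x1 := fun t ht => (hxs t).2 (c.tx t ht)
  have tu1 : ∀ t ∈ T, t • u1 = u1 := fun t ht => (hus t).2 (c.tu t ht)
  have mx1 : ¬ ∀ g : H, g • x1 = x1 := fun hc => c.mx fun g => (hxs g).1 (hc g)
  have mu1 : ¬ ∀ g : H, g • u1 = u1 := fun hc => c.mu fun g => (hus g).1 (hc g)
  obtain ⟨H', j1, j2, N', j3, j4, j5, π, f, B, o, nmax, nx1, nu1, hs⟩ := exists_sysT₀ c.lb hM tx1 tu1 hx1 hu1 mu1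
    (by
      obtain ⟨q, hq, hqx⟩ := hPx'
      exact ⟨P₀, hTP₀, ⟨q, hq, fun hc => hqx ((hxs q).1 hc)⟩, fun q hq => (hus q).2 (hPu q hq)⟩)
    (fun P hP' => by
      rcases par P hP' with h1 | h1 | h1
      · exact Or.inr ⟨x1, hx1, mx1, fun q hq => (hxs q).2 ((c.sx P hP'.le).2 h1 q hq)⟩
      · exact Or.inr ⟨u1, hu1, mu1, fun q hq => (hus q).2 (hgood P hP'.le h1 q hq)⟩
      · exact Or.inl (c.le.trans h1.1))
  refine ⟨H', j1, j2, N', j3, j4, j5, _, B, _, _, hs fun K hK hKo => ?_⟩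
  -- images of vectors
  have him : ∀ {m : N} (hm : m ∈ cmm N A') {g : H}, g • m = m → π g • f ⟨m, hm⟩ = f ⟨m, hm⟩ := by
    intro m hm g hg
    rw [← o.eqv g ⟨m, hm⟩]
    exact congrArg f (Subtype.ext hg)
  -- the kernel of `π` centralises `U¹`
  have hkx' : ∀ k ∈ π.ker ⊔ T, k • x1 = x1 := by
    refine c.lb.fix_of_mod tx1 le_sup_right (I := cv N (Km A' : Set H))
      (fun w hw tw g _ => c.lb.fix_of_cvKm tw hw g) fun k hk => ?_
    have h1 : π k • f ⟨x1, hx1⟩ = f ⟨x1, hx1⟩ := by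
      obtain ⟨k1, hk1, s, hs', rfl⟩ := mem_sup_of_normal_left.1 hk
      rw [map_mul, (MonoidHom.mem_ker).1 hk1, one_mul]
      exact him hx1 (tx1 s hs')
    rw [← o.eqv k ⟨x1, hx1⟩, ← mul_inv_eq_one, ← map_inv, ← map_mul, o.ker] at h1
    exact h1
  have hkx : ∀ k ∈ π.ker, k • x = x := by
    have h1 : ∀ k ∈ π.ker ⊔ T, k • x' = x' := fun k hk => (hxs k).1 (hkx' k hk)
    exact fun k hk => (c.sx _ le_sup_right).1 h1 k (mem_sup_left hk)
  have hkU : ∀ k ∈ π.ker, ∀ w ∈ cmm M A, k • w = w := by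
    intro k hk w hw
    have h1 : k ∈ fxr H (orb (⊤ : Subgroup H) x) := by
      rw [mem_fxr_orb]
      intro s _
      have h2 := hkx (s⁻¹ * k * s) (by
        have := (inferInstance : (π.ker).Normal).conj_mem k hk s⁻¹
        rwa [inv_inv] at this)
      rwa [mul_smul, mul_smul, inv_smul_eq_iff] at h2
    exact h1 w (h.cmm_le hM tx hx hw)
  -- the stabiliser of `Y`
  let NYs : Subgroup H :=
    { carrier := {g : H | ∀ w : M, g • w ∈ Y ↔ w ∈ Y}
      one_mem' := fun w => by rw [one_smul]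
      mul_mem' := fun {a b} ha hb w => by rw [mul_smul, ha, hb]
      inv_mem' := fun {a} ha w => by rw [← ha, smul_inv_smul] }
  have hNYs : ∀ {P : Subgroup H}, (∀ p ∈ P, ∀ w ∈ Y, p • w ∈ Y) → P ≤ NYs := by
    intro P hP p hp w
    refine ⟨fun hw => ?_, hP p hp w⟩
    have h1 := hP p⁻¹ (inv_mem hp) _ hw
    rwa [inv_smul_smul] at h1
  have hTN : T ≤ NYs := hNYs TY
  -- `K ≤ π(N(Y))`
  have hKN : K ≤ NYs.map π := by
    have hle : K ⊔ T.map π ≤ NYs.map π := by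
      refine le_of_forall le_sup_right ?_ ?_
      · rintro ν ⟨-, hν⟩
        obtain ⟨_, ⟨t, ht, rfl⟩, n, hn, rfl⟩ := KL.GenTool.exists_normalizer_map π o.πs h.two h.syl hν
        refine mul_mem ⟨t, hTN ht, rfl⟩ ⟨n, ?_, rfl⟩
        exact hNYs (P := normalizer (T : Set H)) NY hn
      · intro P' hP' hPK
        obtain ⟨P, hP, rfl⟩ := KL.GenTool.exists_minPar_map π o.πs hP'
        obtain ⟨hn1, hn2⟩ := inf_normal o.lb nmax hK hKo hP'.le hPK
        have hno : ∀ m : N', m ≠ 1 → (∀ p ∈ P.map π, p • m = m) → False := by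
          intro m hm hPm
          have h6 := bot_of_fix o.faith o.irr hn1 hm fun n hn => hPm n hn.1
          rw [h6, bot_sup_eq] at hn2
          exact hP'.ne hn2
        rcases par P hP with h1 | h1 | h1
        · refine (hno _ nx1 ?_).elim
          rintro _ ⟨q, hq, rfl⟩
          exact him hx1 ((hxs q).2 ((c.sx P hP.le).2 h1 q hq))
        · refine (hno _ nu1 ?_).elim
          rintro _ ⟨q, hq, rfl⟩
          exact him hu1 ((hus q).2 (hgood P hP.le h1 q hq))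
        · exact map_mono (hNYs h1.2)
    exact le_sup_left.trans hle
  -- the group `D`
  let D : Subgroup H := NYs ⊓ K.comap π ⊓ Km A
  have hDm : D.map π ≤ K := by
    rintro _ ⟨g, hg, rfl⟩
    exact hg.1.2
  have hDo : Odd (Nat.card (D.map π)) := hKo.of_dvd_nat (card_dvd_of_le hDm)
  have hDU : ∀ g ∈ D, ∀ m ∈ Y ⊓ cmm M A, g • m ∈ Y ⊓ cmm M A := fun g hg m hm =>
    ⟨(hg.1.1 m).2 hm.1, smul_mem_cmm g hm.2⟩
  let W : Subgroup M := closure {w : M | ∃ g ∈ D, ∃ y ∈ ((Y ⊓ cmm M A : Subgroup M) : Set M), w = (g • y) * y⁻¹}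
  have hWY : W ≤ Y ⊓ cmm M A := by
    rw [closure_le]
    rintro _ ⟨g, hg, y, hy, rfl⟩
    exact mul_mem (hDU g hg y hy) (inv_mem hy)
  have hDT : ∀ t ∈ T, ∀ g ∈ D, t * g * t⁻¹ ∈ D := by
    intro t ht g hg
    refine ⟨⟨NYs.mul_mem (NYs.mul_mem (hTN ht) hg.1.1) (NYs.inv_mem (hTN ht)), ?_⟩, ?_⟩
    · exact (inferInstance : (K.comap π).Normal).conj_mem g hg.1.2 t
    · exact (inferInstance : (Km A).Normal).conj_mem g hg.2 t
  have hTW : ∀ t ∈ T, ∀ w ∈ W, t • w ∈ W := by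
    intro t ht w hw
    have h1 : W ≤ W.comap (MulDistribMulAction.toMonoidHom M t) := by
      rw [closure_le]
      rintro _ ⟨g, hg, y, hy, rfl⟩
      change t • ((g • y) * y⁻¹) ∈ W
      refine subset_closure ⟨t * g * t⁻¹, hDT t ht g hg, t • y, ⟨TY t ht y hy.1, smul_mem_cmm t hy.2⟩, ?_⟩
      rw [smul_mul', smul_inv', ← mul_smul, ← mul_smul, inv_mul_cancel_right]
    exact h1 hw
  have hW1 : W = ⊥ := by
    by_contra hne
    obtain ⟨w, hw, hw1, tw⟩ := exists_fix h.sq h.two hTW hne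
    exact hw1 (norm_one h.sq π (U := cmm M A) hkU hDo (fun m hm => hm.2) hw
      fun g _ => cY w (hWY hw).1 tw g)
  -- elements of odd order of `D` centralise `Y`
  have hDY : ∀ g ∈ D, Odd (orderOf g) → ∀ w ∈ Y, g • w = w := by
    intro g hg hgo w hw
    refine fix_of_odd h.sq hgo ?_
    have h1 : (g • w) * w⁻¹ ∈ ((Y ⊓ cmm M A : Subgroup M) : Set M) :=
      ⟨Y.mul_mem ((hg.1.1 w).2 hw) (Y.inv_mem hw), mem_cmm hg.2 w⟩
    have h2 : (g • ((g • w) * w⁻¹)) * ((g • w) * w⁻¹)⁻¹ ∈ W := subset_closure ⟨g, hg, _, h1, rfl⟩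
    rw [hW1, mem_bot] at h2
    exact mul_inv_eq_one.1 h2
  refine bot_of_fix o.faith o.irr hK nu1 fun κ hκ => ?_
  obtain ⟨g, hg, rfl⟩ := hKN hκ
  -- the odd part of `g`
  obtain ⟨a, m, hm, ha⟩ := Nat.exists_eq_pow_mul_and_not_dvd (orderOf_pos g).ne' 2 (by norm_num)
  have hm' : Odd m := Nat.not_even_iff_odd.1 fun h => hm h.two_dvd
  have hm0 : 0 < m := hm'.pos
  have hgo : orderOf (g ^ 2 ^ a) = m := by
    rw [orderOf_pow_of_dvd (by positivity) (ha ▸ Dvd.intro _ rfl), ha, Nat.mul_div_cancel_left _ (by positivity)]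
  have hgo' : Odd (orderOf (g ^ 2 ^ a)) := hgo ▸ hm'
  have hgD : g ^ 2 ^ a ∈ D := by
    refine ⟨⟨pow_mem hg _, ?_⟩, mem_of_odd h.two h.gen hgo'⟩
    change π (g ^ 2 ^ a) ∈ K
    rw [map_pow]
    exact K.pow_mem hκ _
  have h1 : π g ^ 2 ^ a • f ⟨u1, hu1⟩ = f ⟨u1, hu1⟩ := by
    rw [← map_pow]
    exact him hu1 ((hus _).2 (c.su _ hgo' (hDY _ hgD hgo')))
  have h2 : (2 ^ a).Coprime (orderOf (π g)) := by
    have h3 : orderOf (π g) ∣ Nat.card K := by
      have := orderOf_dvd_natCard (⟨π g, hκ⟩ : K)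
      rwa [orderOf_mk] at this
    exact Nat.Coprime.pow_left a (Nat.coprime_two_left.mpr (hKo.of_dvd_nat h3))
  obtain ⟨j, hj⟩ := exists_pow_eq_self_of_coprime h2
  have h3 : (π g ^ 2 ^ a) ^ j ∈ MulAction.stabilizer H' (f ⟨u1, hu1⟩) := pow_mem h1 j
  rw [hj] at h3
  exact h3

end

end Cfsg.Agent.Omega.KL.StarQ
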