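import Cfsg.Agent.Omega.KL.StarQ.Main

/-!
# THEOREM KL*(q)+ : KL*(q) with bad `T`-minimal subgroups (bb #24575 (R), helper988)

As `StarQ/Main.lean`, but `T`-minimal subgroups `P` which neither fix `Z` nor have their odd elements in the centraliser
of `Y` are allowed, if they lie in a fixed subgroup `NJ` with `A ≤ O₂(NJ)`, `N_H(T), C_H(Z) ≤ NJ`, and, for some
`B ≤ O₂(P)` and all `t ∈ P` of odd order: `[t, B]` centralises `[Y, t]` only if `t` centralises `Y`.

* `FL` : `LB`, faithful, irreducible, `T` in at least two maximal subgroups;  `FL.odd_le_center`;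
* `exists_of_coreB` : `SysT` from `LB`;
* `InpB T A B NJ Z Y` : the input;  **`InpB.exists_sysT`**, `InpB.false_of`.
-/

set_option autoImplicit false

namespace Cfsg.Agent.Omega.KL.StarQ

open Subgroup Cfsg Cfsg.Agent.ZN Cfsg.Agent.ClassTwoFusion.Quad
open Cfsg.Agent.Omega.ML.MinFrame hiding comm_of_sq
open Cfsg.Agent.Omega.ML.Final Cfsg.Agent.Omega.NO3S.EMany.Low
open Cfsg.Agent.Omega.KL.Star.Core
open Cfsg.Agent.MinSimple.VModule (o2_isPGroup o2_le le_o2 le_normalizer_o2 o2_le_of_sylow oddGen oddGen_le oddGen_def)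
open Cfsg.Agent.MinSimple.MinParabolic (IsMinPar le_of_forall)

universe u v

/-- `LB`, faithful, irreducible, `T` in at least two maximal subgroups -/
structure FL (H : Type u) [Group H] (M : Type v) [Group M] [MulDistribMulAction H M] (T A : Subgroup H) :
    Prop extends LB H M T A where
  faith : ∀ h : H, (∀ m : M, h • m = m) → h = 1
  irr : ∀ W : Subgroup M, (∀ h : H, ∀ w ∈ W, h • w ∈ W) → W = ⊥ ∨ W = ⊤
  nmax : ¬ ∃ N : Subgroup H, N ≠ ⊤ ∧ ∀ R : Subgroup H, T ≤ R → R ≠ ⊤ → R ≤ N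

section FL

variable {H : Type u} [Group H] {M : Type v} [Group M] [MulDistribMulAction H M] {T A : Subgroup H}

/-- a normal subgroup which fixes a non-trivial vector is trivial -/
theorem FL.bot_of_fix (h : FL H M T A) {N : Subgroup H} (hN : N.Normal) {m : M} (hm : m ≠ 1)
    (hf : ∀ n ∈ N, n • m = m) : N = ⊥ := by
  have h1 : cv M (N : Set H) = ⊤ := by
    refine (h.irr _ ?_).resolve_left ?_
    · intro g w hw n hn
      have h2 := hw (g⁻¹ * n * g) (by simpa using hN.conj_mem n hn g⁻¹)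
      rwa [mul_smul, mul_smul, inv_smul_eq_iff] at h2
    · intro h2
      have h3 : m ∈ cv M (N : Set H) := fun n hn => hf n hn
      rw [h2, mem_bot] at h3
      exact hm h3
  rw [eq_bot_iff]
  intro n hn
  exact mem_bot.2 (h.faith n fun w => (h1 ▸ mem_top w : w ∈ cv M (N : Set H)) n hn)

variable [Finite H]

/-- a normal subgroup of odd order is central -/
theorem FL.odd_le_center (h : FL H M T A) {N : Subgroup H} (hN : N.Normal) (hNo : Odd (Nat.card N))
    (hPN : ∀ P : Subgroup H, IsMinPar T P → P ≤ N ⊔ T → (P ⊓ N).Normal → P ⊓ N = ⊥) :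
    N ≤ center H := by
  have hgen : Km A ⊔ T = ⊤ := h.gen
  by_cases hNT : N ⊔ T = ⊤
  · -- `N T = H`
    exfalso
    let D : Subgroup H := N ⊓ centralizer {z : H | ∃ t ∈ T, ∃ a ∈ A, z = t * a * t⁻¹}
    have hDT : ∀ s ∈ T, ∀ d ∈ D, s * d * s⁻¹ ∈ D := by
      intro s hs d hd
      refine ⟨hN.conj_mem d hd.1 s, mem_centralizer_iff.2 ?_⟩
      rintro _ ⟨t, ht, a, ha, rfl⟩
      have h1 := mem_centralizer_iff.1 hd.2 _ ⟨s⁻¹ * t, mul_mem (inv_mem hs) ht, a, ha, rfl⟩
      have h2 := congrArg (fun w => s * w * s⁻¹) h1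
      simp only [mul_inv_rev, inv_inv] at h2
      calc t * a * t⁻¹ * (s * d * s⁻¹) = s * (s⁻¹ * t * a * (t⁻¹ * s) * d) * s⁻¹ := by group
        _ = s * (d * (s⁻¹ * t * a * (t⁻¹ * s))) * s⁻¹ := h2
        _ = s * d * s⁻¹ * (t * a * t⁻¹) := by group
    have hDn : T ≤ normalizer (D : Set H) := by
      intro s hs
      rw [mem_normalizer_iff]
      intro z
      refine ⟨hDT s hs z, fun hz => ?_⟩
      have h1 := hDT s⁻¹ (inv_mem hs) _ hz
      have h2 : s⁻¹ * (s * z * s⁻¹) * s⁻¹⁻¹ = z := by group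
      rwa [h2] at h1
    refine h.nmax ⟨D ⊔ T, ?_, ?_⟩
    · intro htop
      -- `N` centralises all `T`-conjugates of `A`
      have hcen : ∀ n ∈ N, ∀ t ∈ T, ∀ a ∈ A, t * a * t⁻¹ * n = n * (t * a * t⁻¹) := by
        intro e he t' ht' a ha
        have h2 : e ∈ ((D ⊔ T : Subgroup H) : Set H) := htop ▸ mem_top e
        rw [coe_mul_of_right_le_normalizer_left D T hDn] at h2
        obtain ⟨d, hd, t, ht, rfl⟩ := h2
        have h3 : t ∈ N := by
          have := N.mul_mem (N.inv_mem hd.1) he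
          simpa using this
        have h4 : t = 1 := eq_one_of_odd hNo h.two h3 ht
        rw [h4]
        simp only [mul_one]
        exact mem_centralizer_iff.1 hd.2 _ ⟨t', ht', a, ha, rfl⟩
      -- their closure is normal in `H`
      let K1 : Subgroup H := closure {z : H | ∃ t ∈ T, ∃ a ∈ A, z = t * a * t⁻¹}
      have hK1T : K1 ≤ T := by
        rw [closure_le]
        rintro _ ⟨t, ht, a, ha, rfl⟩
        exact T.mul_mem (T.mul_mem ht (h.BT ha)) (T.inv_mem ht)
      have hK1 : K1 ≤ o2 (⊤ : Subgroup H) := by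
        refine le_o2 le_top (h.two.to_le hK1T) ?_
        rw [← hNT]
        refine sup_le ?_ ?_
        · intro n hn
          have h1 : n ∈ centralizer (K1 : Set H) := by
            rw [centralizer_closure, mem_centralizer_iff]
            rintro _ ⟨t, ht, a, ha, rfl⟩
            exact hcen n hn t ht a ha
          exact centralizer_le_normalizer _ h1
        · have hconj : ∀ s ∈ T, ∀ k ∈ K1, s * k * s⁻¹ ∈ K1 := by
            intro s hs k hk
            have h1 : K1 ≤ K1.comap (MulAut.conj s).toMonoidHom := by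
              rw [closure_le]
              rintro _ ⟨t, ht, a, ha, rfl⟩
              refine subset_closure ⟨s * t, T.mul_mem hs ht, a, ha, ?_⟩
              change s * (t * a * t⁻¹) * s⁻¹ = _
              group
            exact h1 hk
          intro s hs
          rw [mem_normalizer_iff]
          intro z
          refine ⟨hconj s hs z, fun hz => ?_⟩
          have h1 := hconj s⁻¹ (inv_mem hs) _ hz
          have h2 : s⁻¹ * (s * z * s⁻¹) * s⁻¹⁻¹ = z := by group
          rwa [h2] at h1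
      exact h.nb fun a ha => hK1 (subset_closure ⟨1, one_mem T, a, ha, by group⟩)
    · intro R hTR hR
      have h1 : R ⊓ N ⊔ T = R := by
        apply le_antisymm (sup_le inf_le_left hTR)
        intro r hr
        have h1 : r ∈ N ⊔ T := hNT ▸ mem_top r
        rw [mem_sup_of_normal_left] at h1
        obtain ⟨n, hn, s, hs, rfl⟩ := h1
        refine mul_mem_sup ⟨?_, hn⟩ hs
        have := R.mul_mem hr (R.inv_mem (hTR hs))
        rwa [mul_inv_cancel_right] at this
      rw [← h1]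
      refine sup_le_sup_right ?_ T
      intro e he
      refine ⟨he.2, mem_centralizer_iff.2 ?_⟩
      rintro _ ⟨t, ht, a, ha, rfl⟩
      have h3 : t * a * t⁻¹ ∈ o2 R := (mem_normalizer_iff.1 (le_normalizer_o2 R (hTR ht)) a).1 (h.low R hTR hR ha)
      exact (comm_odd hN hNo he.2 he.1 h3).symm
  · -- `N T < H` : `N` is centralised by `A`
    have hAN : Km A ≤ centralizer (N : Set H) := by
      refine Km_le inferInstance fun a ha => mem_centralizer_iff.2 fun n hn => ?_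
      exact comm_odd hN hNo hn (mem_sup_left hn) (h.low _ le_sup_right hNT ha)
    -- no minimal parabolics in `N T`
    have hP : ∀ P : Subgroup H, IsMinPar T P → P ≤ N ⊔ T → False := by
      intro P hP hPT
      have h4 : P ⊓ N ⊔ T = P := by
        apply le_antisymm (sup_le inf_le_left hP.le)
        intro r hr
        have h1 : r ∈ N ⊔ T := hPT hr
        rw [mem_sup_of_normal_left] at h1
        obtain ⟨n, hn, s, hs, rfl⟩ := h1
        refine mul_mem_sup ⟨?_, hn⟩ hs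
        have := P.mul_mem hr (P.inv_mem (hP.le hs))
        rwa [mul_inv_cancel_right] at this
      have h5 : (P ⊓ N).Normal := by
        rw [← normalizer_eq_top_iff, eq_top_iff, ← hgen]
        refine sup_le ?_ ?_
        · intro k hk
          have h1 : k ∈ centralizer ((P ⊓ N : Subgroup H) : Set H) := by
            rw [mem_centralizer_iff]
            intro z hz
            exact mem_centralizer_iff.1 (hAN hk) z hz.2
          exact centralizer_le_normalizer _ h1
        · intro t ht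
          rw [mem_normalizer_iff]
          intro z
          constructor
          · rintro ⟨hz1, hz2⟩
            exact ⟨P.mul_mem (P.mul_mem (hP.le ht) hz1) (P.inv_mem (hP.le ht)), hN.conj_mem z hz2 t⟩
          · rintro ⟨hz1, hz2⟩
            have h7 : t⁻¹ * (t * z * t⁻¹) * t⁻¹⁻¹ = z := by group
            refine ⟨?_, ?_⟩
            · rw [← h7]
              exact P.mul_mem (P.mul_mem (P.inv_mem (hP.le ht)) hz1) (P.inv_mem (P.inv_mem (hP.le ht)))
            · rw [← h7]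
              exact hN.conj_mem _ hz2 t⁻¹
      have h6 : P ⊓ N = ⊥ := hPN P hP hPT h5
      rw [h6, bot_sup_eq] at h4
      exact hP.ne h4
    have hNT' : N ⊔ T ≤ normalizer (T : Set H) :=
      le_of_forall le_sup_right inf_le_right fun P hP1 hP2 => (hP P hP1 hP2).elim
    -- `[N, T] = 1`
    have hTN : T ≤ centralizer (N : Set H) := by
      intro t ht
      rw [mem_centralizer_iff]
      intro n hn
      have h1 : n * t * n⁻¹ * t⁻¹ = 1 := by
        refine eq_one_of_odd hNo h.two ?_ ?_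
        · have h2 : n * t * n⁻¹ * t⁻¹ = n * (t * n⁻¹ * t⁻¹) := by group
          rw [h2]
          exact mul_mem hn (hN.conj_mem _ (inv_mem hn) t)
        · exact mul_mem ((mem_normalizer_iff.1 (hNT' (mem_sup_left hn)) t).1 ht) (inv_mem ht)
      calc n * t = (n * t * n⁻¹ * t⁻¹) * (t * n) := by group
        _ = t * n := by rw [h1, one_mul]
    intro n hn
    rw [mem_center_iff]
    intro g
    have h1 : g ∈ centralizer (N : Set H) := by
      have h2 : Km A ⊔ T ≤ centralizer (N : Set H) := sup_le hAN hTN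
      exact h2 (hgen ▸ mem_top g)
    exact (mem_centralizer_iff.1 h1 n hn).symm

end FL

section

variable {H : Type u} [Group H] [Finite H] {M : Type v} [Group M] [Finite M] [MulDistribMulAction H M]
  {T A : Subgroup H}

omit [Finite M] in
/-- the output of the machine is `FL` -/
theorem fl_of_out (h : LB H M T A) {H' : Type u} [Group H'] {N : Type v} [Group N] [MulDistribMulAction H' N]
    {π : H →* H'} {f : ↥(cmm M A) →* N} {A' : Subgroup H'} (o : Out H M T A H' N π f A')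
    (nm : ¬ IsMinPar T (⊤ : Subgroup H)) : FL H' N (T.map π) A' := by
  refine ⟨o.lb, o.faith, o.irr, ?_⟩
  rintro ⟨L, hL, hLm⟩
  by_cases hn : (⊤ : Subgroup H') ≤ normalizer ((T.map π : Subgroup H') : Set H')
  · exact o.lb.nb (o.lb.BT.trans (le_o2 le_top o.lb.two hn))
  · obtain ⟨P, hP, hPm⟩ := KL.GenTool.exists_minPar_map π o.πs (T := T) (P' := ⊤)
      ⟨le_top, hn, L, lt_top_iff_ne_top.2 hL, fun K hK hlt => hLm K hK hlt.ne⟩
    have hPt : P ≠ ⊤ := fun h1 => nm (h1 ▸ hP)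
    apply o.lb.nb
    refine o.AB.trans ((map_mono (h.low P hP.le hPt)).trans ((KL.GenTool.o2_map_le π P).trans ?_))
    rw [hPm]

/-- an element of odd order of `N T`, `T` a 2-group, `N` normal, lies in `N` -/
theorem mem_of_odd_sup {G : Type*} [Group G] {N T : Subgroup G} [hN : N.Normal] (hT : IsPGroup 2 T) {g : G}
    (hg : g ∈ N ⊔ T) (ho : Odd (orderOf g)) : g ∈ N := by
  rw [← QuotientGroup.eq_one_iff]
  obtain ⟨n, hn, t, ht, rfl⟩ := mem_sup_of_normal_left.1 hg
  obtain ⟨k, hk⟩ := hT ⟨t, ht⟩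
  have hk' : t ^ 2 ^ k = 1 := congrArg Subtype.val hk
  have h1 : ((n * t : G) : G ⧸ N) = (t : G ⧸ N) := by
    rw [QuotientGroup.mk_mul, (QuotientGroup.eq_one_iff n).2 hn, one_mul]
  have h2 : orderOf ((n * t : G) : G ⧸ N) ∣ 2 ^ k := by
    rw [h1]
    apply orderOf_dvd_of_pow_eq_one
    rw [← QuotientGroup.mk_pow, hk', QuotientGroup.mk_one]
  have h3 : orderOf ((n * t : G) : G ⧸ N) ∣ orderOf (n * t) := orderOf_map_dvd (QuotientGroup.mk' N) _
  have h4 : (2 ^ k).Coprime (orderOf (n * t)) := Nat.Coprime.pow_left k (Nat.coprime_two_left.mpr ho)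
  exact orderOf_eq_one_iff.1 (Nat.eq_one_of_dvd_coprimes h4 h2 h3)

/-- **the end over `LB`** -/
theorem exists_of_coreB (h : LB H M T A) (hM : MLK.{u, v}) {x : M} (tx : ∀ t ∈ T, t • x = x)
    {Y : Subgroup M} (NY : ∀ g ∈ normalizer (T : Set H), ∀ w ∈ Y, g • w ∈ Y)
    (cY : ∀ w ∈ Y, (∀ t ∈ T, t • w = w) → ∀ g : H, g • w = w)
    (hY : ¬ ∀ g : H, Odd (orderOf g) → ∀ w ∈ Y, g • w = w) (nm : ¬ IsMinPar T (⊤ : Subgroup H))
    (mv : ∃ P : Subgroup H, IsMinPar T P ∧ (∃ p ∈ P, p • x ≠ x) ∧ ∀ g ∈ P, Odd (orderOf g) → ∀ w ∈ Y, g • w = w)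
    {B : Subgroup H}
    (par : ∀ P : Subgroup H, IsMinPar T P → (∀ p ∈ P, p • x = x) ∨ (∀ g ∈ P, Odd (orderOf g) → ∀ w ∈ Y, g • w = w) ∨
      (B ≤ o2 P ∧ ∀ t ∈ P, Odd (orderOf t) →
        (∀ b ∈ B, ∀ w ∈ Y, (t * b * t⁻¹ * b⁻¹) • ((t • w) * w⁻¹) = (t • w) * w⁻¹) → ∀ w ∈ Y, t • w = w)) :
    ∃ (H' : Type u) (_ : Group H') (_ : Finite H') (N : Type v) (_ : Group N) (_ : Finite N)
      (_ : MulDistribMulAction H' N) (T' A' : Subgroup H') (x' y' : N), ML.Ex.Two.SysT H' N T' A' x' y' := by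
  obtain ⟨P, hPm, ⟨p, hp, hpx⟩, hPg⟩ := mv
  have hx : ¬ ∀ g : H, g • x = x := fun hc => hpx (hc p)
  have TY : ∀ t ∈ T, ∀ w ∈ Y, t • w ∈ Y := fun t ht => NY t (le_normalizer ht)
  obtain ⟨N, i1, i2, i3, A', x', u', c⟩ := core h hM tx hx TY hY
  -- good minimal parabolics
  have hgood : ∀ P : Subgroup H, IsMinPar T P → (∀ g ∈ P, Odd (orderOf g) → ∀ w ∈ Y, g • w = w) →
      ∀ p ∈ P, p • u' = u' := by
    intro P hP h2
    have h3 : oddGen P ⊔ T = P := oddGen_sup hP.le
      fun h2 => h.syl (h2.trans (relIndex_dvd_index_of_le hP.le))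
    have h4 : P ≤ MulAction.stabilizer H u' := by
      rw [← h3]
      refine sup_le ?_ fun t ht => c.tu t ht
      rw [oddGen_def, closure_le]
      rintro g ⟨hgP, hgo⟩
      exact c.su g hgo fun w hw => h2 g hgP hgo w hw
    exact fun p hp => h4 hp
  have hPx' : ∃ p ∈ P, p • x' ≠ x' := by
    by_contra hc
    push Not at hc
    exact hpx ((c.sx P hPm.le).1 hc p hp)
  have hPu : ∀ p ∈ P, p • u' = u' := hgood P hPm hPg
  -- shift
  obtain ⟨x1, hx1, hxs⟩ := c.lb.shift c.tx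
  obtain ⟨u1, hu1, hus⟩ := c.lb.shift c.tu
  have tx1 : ∀ t ∈ T, t • x1 = x1 := fun t ht => (hxs t).2 (c.tx t ht)
  have tu1 : ∀ t ∈ T, t • u1 = u1 := fun t ht => (hus t).2 (c.tu t ht)
  have mx1 : ¬ ∀ g : H, g • x1 = x1 := fun hc => c.mx fun g => (hxs g).1 (hc g)
  have mu1 : ¬ ∀ g : H, g • u1 = u1 := fun hc => c.mu fun g => (hus g).1 (hc g)
  obtain ⟨H', j1, j2, N', j3, j4, j5, π, f, B', o⟩ := c.lb.exists_out hM tx1 mx1 hx1
  have fl : FL H' N' (T.map π) B' := fl_of_out c.lb o nm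
  -- images of vectors
  have him : ∀ {m : N} (hm : m ∈ cmm N A') {g : H}, g • m = m → π g • f ⟨m, hm⟩ = f ⟨m, hm⟩ := by
    intro m hm g hg
    rw [← o.eqv g ⟨m, hm⟩]
    exact congrArg f (Subtype.ext hg)
  have hne : ∀ {m : N} (hm : m ∈ cmm N A'), (∀ t ∈ T, t • m = m) → (¬ ∀ g : H, g • m = m) → f ⟨m, hm⟩ ≠ 1 := by
    intro m hm tm hc h1
    exact hc fun g => c.lb.fix_of_cvKm tm ((o.ker _).1 h1) g
  have hback : ∀ {m : N} (hm : m ∈ cmm N A'), (∀ t ∈ T, t • m = m) → ∀ R : Subgroup H, T ≤ R →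
      (∀ g ∈ R, π g • f ⟨m, hm⟩ = f ⟨m, hm⟩) → ∀ g ∈ R, g • m = m := by
    intro m hm tm R hTR hR
    refine c.lb.fix_of_mod tm hTR (I := cv N (Km A' : Set H)) (fun w hw tw g _ => c.lb.fix_of_cvKm tw hw g) fun g hg => ?_
    have h1 := hR g hg
    rw [← o.eqv g ⟨m, hm⟩, ← mul_inv_eq_one, ← map_inv, ← map_mul, o.ker] at h1
    exact h1
  have x1' := hne hx1 tx1 mx1
  have y1' := hne hu1 tu1 mu1
  have htx : ∀ t ∈ T.map π, t • f ⟨x1, hx1⟩ = f ⟨x1, hx1⟩ := by
    rintro _ ⟨t, ht, rfl⟩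
    exact him hx1 (tx1 t ht)
  have hty : ∀ t ∈ T.map π, t • f ⟨u1, hu1⟩ = f ⟨u1, hu1⟩ := by
    rintro _ ⟨t, ht, rfl⟩
    exact him hu1 (tu1 t ht)
  have hPx1 : ∃ q ∈ P.map π, q • f ⟨x1, hx1⟩ ≠ f ⟨x1, hx1⟩ := by
    by_contra hc
    push Not at hc
    obtain ⟨q, hq, hqx⟩ := hPx'
    exact hqx ((hxs q).1 (hback hx1 tx1 P hPm.le (fun g hg => hc _ ⟨g, hg, rfl⟩) q hq))
  have hPu1 : ∀ q ∈ P.map π, q • f ⟨u1, hu1⟩ = f ⟨u1, hu1⟩ := by
    rintro _ ⟨q, hq, rfl⟩
    exact him hu1 ((hus q).2 (hPu q hq))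
  have hxy : f ⟨x1, hx1⟩ ≠ f ⟨u1, hu1⟩ := by
    intro he
    obtain ⟨q, hq, hqx⟩ := hPx1
    rw [he] at hqx
    exact hqx (hPu1 q hq)
  -- the kernel of `π` fixes `x`
  have hkx' : ∀ k ∈ π.ker ⊔ T, k • x1 = x1 := by
    refine c.lb.fix_of_mod tx1 le_sup_right (I := cv N (Km A' : Set H))
      (fun w hw tw g _ => c.lb.fix_of_cvKm tw hw g) fun k hk => ?_
    have h1 : π k • f ⟨x1, hx1⟩ = f ⟨x1, hx1⟩ := by
      obtain ⟨k1, hk1, s, hs', rfl⟩ := mem_sup_of_normal_left.1 hk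
      rw [map_mul, (MonoidHom.mem_ker).1 hk1, one_mul, ← o.eqv s ⟨x1, hx1⟩]
      exact congrArg f (Subtype.ext (tx1 s hs'))
    rw [← o.eqv k ⟨x1, hx1⟩, ← mul_inv_eq_one, ← map_inv, ← map_mul, o.ker] at h1
    exact h1
  have hkx : ∀ k ∈ π.ker, k • x = x := by
    have h1 : ∀ k ∈ π.ker ⊔ T, k • x' = x' := fun k hk => (hxs k).1 (hkx' k hk)
    exact fun k hk => (c.sx _ le_sup_right).1 h1 k (mem_sup_left hk)
  have hkU : ∀ k ∈ π.ker, ∀ w ∈ cmm M A, k • w = w := by
    intro k hk w hw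
    have h1 : k ∈ fxr H (orb (⊤ : Subgroup H) x) := by
      rw [mem_fxr_orb]
      intro s _
      have h2 := hkx (s⁻¹ * k * s) (by
        have := (inferInstance : (π.ker).Normal).conj_mem k hk s⁻¹
        rwa [inv_inv] at this)
      rwa [mul_smul, mul_smul, inv_smul_eq_iff] at h2
    exact h1 w (h.cmm_le hM tx hx hw)
  refine ⟨H', j1, j2, N', j3, j4, j5, T.map π, B', f ⟨x1, hx1⟩, f ⟨u1, hu1⟩,
    { x1 := x1', y1 := y1', tx := htx, ty := hty, mv := ⟨P.map π, map_mono hPm.le, hPu1, hPx1⟩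
      sq := o.lb.sq, faith := o.faith, irr := o.irr, two := o.lb.two, syl := o.lb.syl, AT := o.lb.BT, el := o.lb.el
      four := four_le o.lb.sq o.faith o.irr o.lb htx hty x1' y1' hxy
      exact := o.lb.exact, atom := o.lb.atom, low := o.lb.low, nmax := fl.nmax, odd := fun K hK hKo => ?_
      KH := o.lb.KH }⟩
  -- minimal parabolics in `K T`
  have hPN : ∀ P' : Subgroup H', IsMinPar (T.map π) P' → P' ≤ K ⊔ T.map π → (P' ⊓ K).Normal → P' ⊓ K = ⊥ := by
    intro P' hP' hPK hPn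
    obtain ⟨R, hR, rfl⟩ := KL.GenTool.exists_minPar_map π o.πs hP'
    have hfu : (∀ r ∈ R, r • u' = u') → R.map π ⊓ K = ⊥ := fun hc => fl.bot_of_fix hPn y1' (by
      rintro n ⟨⟨r, hr, rfl⟩, -⟩
      exact him hu1 ((hus r).2 (hc r hr)))
    rcases par R hR with h1 | h1 | ⟨h1, h2⟩
    · refine fl.bot_of_fix hPn x1' ?_
      rintro n ⟨⟨r, hr, rfl⟩, -⟩
      exact him hx1 ((hxs r).2 ((c.sx R hR.le).2 h1 r hr))
    · exact hfu (hgood R hR h1)
    · refine hfu (hgood R hR fun t ht hto => h2 t ht hto fun b hb w hw => ?_)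
      have h3 : Odd (orderOf (π t)) := hto.of_dvd_nat (orderOf_map_dvd π t)
      have htK : π t ∈ K := mem_of_odd_sup (N := K) o.lb.two (hPK ⟨t, ht, rfl⟩) h3
      have hbo : π b ∈ o2 (R.map π) := KL.GenTool.o2_map_le π R ⟨b, h1 hb, rfl⟩
      have hcm : π t * π b = π b * π t := comm_odd (R := R.map π) hK hKo htK (mem_map_of_mem π ht) hbo
      have hker : t * b * t⁻¹ * b⁻¹ ∈ π.ker := by
        rw [MonoidHom.mem_ker, map_mul, map_mul, map_mul, map_inv, map_inv, hcm]
        group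
      exact hkU _ hker _ (mem_cmm (mem_of_odd h.two h.gen hto) w)
  have hcen := fl.odd_le_center hK hKo hPN
  by_contra hne
  obtain ⟨⟨ν, hν⟩, hν1'⟩ := (Subgroup.ne_bot_iff_exists_ne_one).1 hne
  have hν1 : ν ≠ 1 := fun h1 => hν1' (Subtype.ext h1)
  have hνc : ∀ g : H', g * ν = ν * g := fun g => mem_center_iff.1 (hcen hν) g
  have hνT : ν ∈ normalizer ((T.map π : Subgroup H') : Set H') := by
    rw [mem_normalizer_iff]
    intro g
    rw [← hνc g, mul_inv_cancel_right]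
  obtain ⟨_, ⟨t, ht, rfl⟩, n, hn, hνn⟩ := KL.GenTool.exists_normalizer_map π o.πs h.two h.syl hνT
  obtain ⟨a, ha1, ha2⟩ := exists_pow h.two ht n
  set g : H := n ^ 2 ^ a with hg
  have hgN : g ∈ normalizer (T : Set H) := (normalizer (T : Set H)).pow_mem hn _
  have hπg : π g = ν ^ 2 ^ a := by
    have h1 : Commute (π t) ν := hνc _
    have h2 : π n = (π t)⁻¹ * ν := by rw [hνn]; group
    have h3 : Commute (π t)⁻¹ ν := h1.inv_left
    rw [hg, map_pow, h2, h3.mul_pow, inv_pow, ← map_pow, ha1, map_one, inv_one, one_mul]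
  have hπg1 : π g ≠ 1 := by
    rw [hπg]
    intro h1
    apply hν1
    have h2 : orderOf ν ∣ 2 ^ a := orderOf_dvd_of_pow_eq_one h1
    have h3 : orderOf ν ∣ Nat.card K := by
      have := orderOf_dvd_natCard (⟨ν, hν⟩ : K)
      rwa [orderOf_mk] at this
    have h4 : Odd (orderOf ν) := hKo.of_dvd_nat h3
    have h5 : (2 ^ a).Coprime (orderOf ν) := Nat.Coprime.pow_left a (Nat.coprime_two_left.mpr h4)
    exact orderOf_eq_one_iff.1 (Nat.eq_one_of_dvd_coprimes h5 h2 dvd_rfl)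
  have hπc : ∀ k ∈ zpowers g, ∀ s : H', s * π k = π k * s := by
    intro k hk s
    have h1 : zpowers g ≤ (center H').comap π := by
      rw [zpowers_le, mem_comap, hπg]
      exact (center H').pow_mem (hcen hν) _
    exact mem_center_iff.1 (h1 hk) s
  -- `g` centralises `Y`
  have hgK : ∀ k ∈ zpowers g, k ∈ Km A := by
    have h1 : zpowers g ≤ Km A := by
      rw [zpowers_le]
      exact mem_of_odd h.two h.gen ha2
    exact fun k hk => h1 hk
  have hgY : ∀ w ∈ Y, g • w = w := by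
    refine com_of h.sq h.two ha2 (U := cmm M A) (fun k hk w hw => NY k ?_ w hw) TY
      (fun k hk w _ => mem_cmm (hgK k hk) w) (fun t ht k hk w hw => ?_) (fun w hw tw => cY w hw tw g)
    · have h1 : zpowers g ≤ normalizer (T : Set H) := by
        rw [zpowers_le]
        exact hgN
      exact h1 hk
    · have h1 : (k * t)⁻¹ * (t * k) ∈ π.ker := by
        rw [MonoidHom.mem_ker, map_mul, map_inv, map_mul, map_mul, hπc k hk (π t), inv_mul_cancel]
      have h2 : t * k = (k * t) * ((k * t)⁻¹ * (t * k)) := by group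
      rw [h2, mul_smul _ ((k * t)⁻¹ * (t * k)), hkU _ h1 w hw]
  -- so `π g` fixes the second vector
  have hgu : g • u1 = u1 := (hus g).2 (c.su g ha2 hgY)
  have hfix : π g • f ⟨u1, hu1⟩ = f ⟨u1, hu1⟩ := him hu1 hgu
  have hnor : (zpowers (π g)).Normal := by
    refine ⟨fun k hk s => ?_⟩
    have h1 : k ∈ center H' := by
      have h2 : zpowers (π g) ≤ center H' := by
        rw [zpowers_le, hπg]
        exact (center H').pow_mem (hcen hν) _
      exact h2 hk
    rw [mem_center_iff.1 h1 s, mul_inv_cancel_right]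
    exact hk
  have h1 := fl.bot_of_fix hnor y1' fun k hk => by
    have h2 : zpowers (π g) ≤ MulAction.stabilizer H' (f ⟨u1, hu1⟩) := by
      rw [zpowers_le]
      exact hfix
    exact h2 hk
  exact hπg1 (by
    have h2 := mem_zpowers (π g)
    rw [h1] at h2
    exact mem_bot.1 h2)

end

/-- **The input of THEOREM KL*(q)+** -/
structure InpB {H : Type u} [Group H] {M : Type v} [Group M] [MulDistribMulAction H M] (T A B NJ : Subgroup H)
    (Z Y : Subgroup M) : Prop where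
  sq : ∀ m : M, m * m = 1
  two : IsPGroup 2 T
  syl : ¬ 2 ∣ T.index
  tZ : ∀ z ∈ Z, ∀ t ∈ T, t • z = z
  NY : ∀ g ∈ normalizer (T : Set H), ∀ w ∈ Y, g • w ∈ Y
  /-- the `T`-fixed vectors of `Y` are fixed by `H` -/
  cY : ∀ w ∈ Y, (∀ t ∈ T, t • w = w) → ∀ g : H, g • w = w
  NT : normalizer (T : Set H) ≤ NJ
  CZ : fxr H Z ≤ NJ
  AJ : A ≤ o2 NJ
  /-- a `T`-minimal `P` is contained in `NJ`, or its elements of odd order centralise `Y` -/
  par : ∀ P : Subgroup H, IsMinPar T P → P ≤ NJ ∨ ∀ g ∈ P, Odd (orderOf g) → ∀ w ∈ Y, g • w = w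
  /-- a `T`-minimal `P ≤ NJ` fixes `Z`, or its elements of odd order centralise `Y`, or it normalises the 2-group `B`
  and `[t, B]` centralises `[Y, t]` (`t ∈ P` of odd order) only if `t` centralises `Y` -/
  bad : ∀ P : Subgroup H, IsMinPar T P → P ≤ NJ → (∀ z ∈ Z, ∀ p ∈ P, p • z = z) ∨
    (∀ g ∈ P, Odd (orderOf g) → ∀ w ∈ Y, g • w = w) ∨
    (B ≤ o2 P ∧ ∀ t ∈ P, Odd (orderOf t) →
      (∀ b ∈ B, ∀ w ∈ Y, (t * b * t⁻¹ * b⁻¹) • ((t • w) * w⁻¹) = (t • w) * w⁻¹) → ∀ w ∈ Y, t • w = w)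
  el : ∀ a ∈ A, a * a = 1
  exact : (cv M (A : Set H)).index = Nat.card A
  atom : ∀ C : Subgroup H, C ≤ A → C ≠ ⊥ → C ≠ A → Nat.card C < (cv M (C : Set H)).index
  nT : ¬ A ≤ o2 (⊤ : Subgroup H)
  AY : A ≤ o2 (fxr H Y ⊔ T)
  KH : IsKGroup H

namespace InpB

variable {H : Type u} [Group H] [Finite H] {M : Type v} [Group M] [Finite M] [MulDistribMulAction H M]
  {T A B NJ : Subgroup H} {Z Y : Subgroup M}

omit [Finite M] in
theorem AT (i : InpB T A B NJ Z Y) : A ≤ T :=
  i.AJ.trans (o2_le_of_sylow i.two fun h2 =>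
    i.syl (h2.trans (relIndex_dvd_index_of_le (le_normalizer.trans i.NT))))

/-- **THEOREM KL*(q)+.** -/
theorem exists_sysT (i : InpB T A B NJ Z Y) (hM : MLK.{u, v}) :
    ∃ (H' : Type u) (_ : Group H') (_ : Finite H') (N : Type v) (_ : Group N) (_ : Finite N)
      (_ : MulDistribMulAction H' N) (T' A' : Subgroup H') (x' y' : N), ML.Ex.Two.SysT H' N T' A' x' y' := by
  -- `L` minimal
  obtain ⟨L, ⟨hTL, hAL⟩, hmin⟩ : ∃ L : Subgroup H, (T ≤ L ∧ ¬ A ≤ o2 L) ∧
      ∀ R : Subgroup H, (T ≤ R ∧ ¬ A ≤ o2 R) → R ≤ L → R = L := by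
    have hfin : {L : Subgroup H | T ≤ L ∧ ¬ A ≤ o2 L}.Finite := Set.toFinite _
    obtain ⟨B, hB⟩ := hfin.exists_minimal ⟨⊤, le_top, i.nT⟩
    exact ⟨B, hB.1, fun C hC hCB => le_antisymm hCB (hB.2 hC hCB)⟩
  have hAT := i.AT
  have hAL' : A ≤ L := hAT.trans hTL
  have e1 : ∀ {C : Subgroup H}, C ≤ L → (C.subgroupOf L).map L.subtype = C := fun {C} hC => by
    rw [subgroupOf_map_subtype, inf_eq_left.2 hC]
  have hcv : ∀ C : Subgroup L, cv M (C : Set L) = cv M ((C.map L.subtype : Subgroup H) : Set H) := by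
    intro C
    ext m
    constructor
    · rintro hm _ ⟨c, hc, rfl⟩
      exact hm c hc
    · exact fun hm c hc => hm _ ⟨c, hc, rfl⟩
  have hcard : ∀ C : Subgroup L, Nat.card (C.map L.subtype) = Nat.card C := fun C =>
    card_map_of_injective L.subtype_injective
  have hlb : LB L M (T.subgroupOf L) (A.subgroupOf L) := by
    refine ⟨i.sq, i.two.comap_subtype, fun h2 => ?_, fun x hx => hAT hx, fun b hb => Subtype.ext (i.el b hb), ?_, ?_, ?_, ?_,
      sec_KG.sub H i.KH L⟩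
    · exact i.syl (h2.trans (relIndex_dvd_index_of_le hTL))
    · rw [hcv, e1 hAL', i.exact, ← hcard, e1 hAL']
    · intro C hC hC1 hCF
      rw [hcv, ← hcard]
      refine i.atom _ ?_ ?_ ?_
      · rintro _ ⟨c, hc, rfl⟩
        exact hC hc
      · intro h1
        exact hC1 ((Subgroup.map_eq_bot_iff_of_injective _ L.subtype_injective).1 h1)
      · intro h1
        apply hCF
        rw [← h1]
        exact (comap_map_eq_self_of_injective L.subtype_injective C).symm
    · intro R hTR hR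
      have h1 : R.map L.subtype ≠ L := by
        intro h2
        apply hR
        rw [eq_top_iff]
        intro r _
        have h3 : (r : H) ∈ R.map L.subtype := by
          rw [h2]
          exact r.2
        obtain ⟨s, hs, hsr⟩ := h3
        rwa [← (Subtype.ext hsr : s = r)]
      have h2 : T ≤ R.map L.subtype := fun t ht => ⟨⟨t, hTL ht⟩, hTR ht, rfl⟩
      have h3 : A ≤ o2 (R.map L.subtype) := by
        by_contra hc
        exact h1 (hmin _ ⟨h2, hc⟩ (map_subtype_le R))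
      exact fun x hx => KL.GenTool.o2_subgroupOf_le R (h3 hx)
    · intro hc
      apply hAL
      have h1 := (map_mono (f := L.subtype) hc).trans (KL.GenTool.o2_map_le L.subtype ⊤)
      rw [e1 hAL', ← MonoidHom.range_eq_map, L.range_subtype] at h1
      exact h1
  -- normalizers of `T`
  have hNN : ∀ g : L, g ∈ normalizer ((T.subgroupOf L : Subgroup L) : Set L) → (g : H) ∈ normalizer (T : Set H) := by
    intro g hg
    rw [mem_normalizer_iff] at hg ⊢
    intro t
    constructor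
    · intro ht
      exact (hg ⟨t, hTL ht⟩).1 ht
    · intro ht
      have h1 : t ∈ L := by
        have h2 := L.mul_mem (L.mul_mem (L.inv_mem g.2) (hTL ht)) g.2
        have e : (g : H)⁻¹ * (g * t * (g : H)⁻¹) * g = t := by group
        rwa [e] at h2
      exact (hg ⟨t, h1⟩).2 ht
  -- `L ≰ NJ`
  have hLJ : ¬ L ≤ NJ := fun h1 => hAL ((le_inf i.AJ hAL').trans (InpG.o2_le_o2_of_le h1))
  -- a `T`-minimal subgroup of `L` outside `NJ`
  obtain ⟨P, hPm, hPJ⟩ : ∃ P : Subgroup L, IsMinPar (T.subgroupOf L) P ∧ ¬ P.map L.subtype ≤ NJ := by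
    by_contra hc
    push Not at hc
    apply hLJ
    have h1 : (⊤ : Subgroup L) ≤ NJ.subgroupOf L := by
      refine le_of_forall (S := T.subgroupOf L) le_top (fun g hg => ?_) fun P hP _ p hp => ?_
      · rw [mem_subgroupOf]
        exact i.NT (hNN g hg.2)
      · rw [mem_subgroupOf]
        exact hc P hP ⟨p, hp, rfl⟩
    exact fun g hg => h1 (mem_top (⟨g, hg⟩ : L))
  have hPm' := KL.GenTool.minPar_map_subtype hTL hPm
  have hPg : ∀ g ∈ P, Odd (orderOf g) → ∀ w ∈ Y, g • w = w := by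
    intro g hg hgo w hw
    refine (i.par _ hPm').resolve_left hPJ _ ⟨g, hg, rfl⟩ ?_ w hw
    rwa [Subgroup.coe_subtype, orderOf_coe]
  obtain ⟨x, hxZ, p, hp, hpx⟩ : ∃ z ∈ Z, ∃ p ∈ P, p • z ≠ z := by
    by_contra hc
    push Not at hc
    refine hPJ (le_trans ?_ i.CZ)
    rintro _ ⟨q, hq, rfl⟩ z hz
    exact hc z hz q hq
  have htx : ∀ t ∈ T.subgroupOf L, t • x = x := fun t ht => i.tZ x hxZ _ ht
  -- `L ≠ C_L(Y) T`
  have hY : ¬ ∀ g : L, Odd (orderOf g) → ∀ w ∈ Y, g • w = w := by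
    intro hc
    apply hAL
    have h1 : oddGen L ⊔ T = L := oddGen_sup hTL fun h2 => i.syl (h2.trans (relIndex_dvd_index_of_le hTL))
    have h2 : L ≤ fxr H Y ⊔ T := by
      rw [← h1]
      refine sup_le_sup_right ?_ T
      rw [oddGen_def, closure_le]
      rintro g ⟨hgL, hgo⟩ w hw
      exact hc ⟨g, hgL⟩ (by rwa [orderOf_mk]) w hw
    exact (le_inf i.AY hAL').trans (InpG.o2_le_o2_of_le h2)
  -- `L` is not `T`-minimal
  have nm : ¬ IsMinPar (T.subgroupOf L) (⊤ : Subgroup L) := by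
    intro hc
    have h1 := KL.GenTool.minPar_map_subtype hTL hc
    rw [← MonoidHom.range_eq_map, L.range_subtype] at h1
    rcases i.par _ h1 with h2 | h2
    · exact hLJ h2
    · exact hY fun g hgo w hw => h2 _ g.2 (by rwa [orderOf_coe]) w hw
  refine exists_of_coreB hlb hM htx (Y := Y) (fun g hg w hw => i.NY g (hNN g hg) w hw)
    (fun w hw tw g => i.cY w hw (fun t ht => tw ⟨t, hTL ht⟩ ht) g) hY nm ⟨P, hPm, ⟨p, hp, hpx⟩, hPg⟩
    (B := B.subgroupOf L) fun R hR => ?_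
  have hR' := KL.GenTool.minPar_map_subtype hTL hR
  have hgd : (∀ g ∈ R.map L.subtype, Odd (orderOf g) → ∀ w ∈ Y, g • w = w) →
      ∀ g ∈ R, Odd (orderOf g) → ∀ w ∈ Y, g • w = w := by
    intro h2 g hg hgo w hw
    refine h2 _ ⟨g, hg, rfl⟩ ?_ w hw
    rwa [Subgroup.coe_subtype, orderOf_coe]
  rcases i.par _ hR' with h1 | h1
  · rcases i.bad _ hR' h1 with h2 | h2 | ⟨h2, h3⟩
    · exact Or.inl fun q hq => h2 x hxZ _ ⟨q, hq, rfl⟩
    · exact Or.inr (Or.inl (hgd h2))
    · refine Or.inr (Or.inr ⟨fun b hb => KL.GenTool.o2_subgroupOf_le R (h2 hb), fun t ht hto hc => ?_⟩)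
      refine h3 _ ⟨t, ht, rfl⟩ (by simpa only [orderOf_coe, Subgroup.coe_subtype] using hto) fun b hb w hw => ?_
      obtain ⟨b', -, hb'⟩ := o2_le _ (h2 hb)
      subst hb'
      exact hc b' hb w hw
  · exact Or.inr (Or.inl (hgd h1))

/-- **THEOREM KL*(q)+**, with EXT -/
theorem false_of (hM : MLK.{u, v}) (hE : ML.Ex.Two.Ext.{u, v}) (i : InpB T A B NJ Z Y) : False := by
  obtain ⟨H', i1, i2, N, i3, i4, i5, T', A', x', y', h⟩ := i.exists_sysT hM
  exact hE H' N T' A' x' y' h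

end InpB

end Cfsg.Agent.Omega.KL.StarQ
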