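import Cfsg.Agent.Omega.KL.Star.Core
import Cfsg.Agent.Omega.NO3S.EMany.LowGen

/-!
# LEMMA ZC (bb #23452): the odd centre

* `SysW.odd_le_center` : in `SysW` a normal subgroup of odd order is central (no hypothesis about `N_H(T)`);
* `com_of` : `g` of odd order normalises `T` and `Y`, every `t ∈ T` commutes with `⟨g⟩` on the `T`-invariant subgroup
  `[M, ⟨g⟩]`-part of `Y`, the `T`-fixed vectors of `Y` are fixed by `g`: then `g` centralises `Y`.
-/

set_option autoImplicit false

namespace Cfsg.Agent.Omega.KL.StarQ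

open Subgroup Cfsg Cfsg.Agent.ZN Cfsg.Agent.ClassTwoFusion.Quad
open Cfsg.Agent.Omega.ML.MinFrame hiding comm_of_sq
open Cfsg.Agent.Omega.ML.Final Cfsg.Agent.Omega.NO3S.EMany.Low
open Cfsg.Agent.Omega.KL.Star.Core
open Cfsg.Agent.MinSimple.VModule (o2_isPGroup o2_le le_o2 le_normalizer_o2 o2_le_of_sylow oddGen oddGen_le oddGen_def)
open Cfsg.Agent.MinSimple.MinParabolic (IsMinPar le_of_forall)

universe u v

section odd

variable {H : Type u} [Group H] [Finite H] {M : Type v} [Group M] [Finite M] [MulDistribMulAction H M]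
  {T A : Subgroup H} {x y : M}

omit [Finite M] in
/-- a normal subgroup of odd order is central -/
theorem odd_le_center (h : SysW T A x y) {N : Subgroup H} (hN : N.Normal) (hNo : Odd (Nat.card N)) :
    N ≤ center H := by
  have hgen : Km A ⊔ T = ⊤ := h.lb.gen
  by_cases hNT : N ⊔ T = ⊤
  · -- `N T = H`
    exfalso
    let D : Subgroup H := N ⊓ centralizer {z : H | ∃ t ∈ T, ∃ a ∈ A, z = t * a * t⁻¹}
    have hDT : ∀ s ∈ T, ∀ d ∈ D, s * d * s⁻¹ ∈ D := by
      intro s hs d hd
      refine ⟨hN.conj_mem d hd.1 s, mem_centralizer_iff.2 ?_⟩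
      rintro _ ⟨t, ht, a, ha, rfl⟩
      have h1 := mem_centralizer_iff.1 hd.2 _ ⟨s⁻¹ * t, mul_mem (inv_mem hs) ht, a, ha, rfl⟩
      have h2 := congrArg (fun w => s * w * s⁻¹) h1
      simp only [mul_inv_rev, inv_inv] at h2
      calc t * a * t⁻¹ * (s * d * s⁻¹) = s * (s⁻¹ * t * a * (t⁻¹ * s) * d) * s⁻¹ := by group
        _ = s * (d * (s⁻¹ * t * a * (t⁻¹ * s))) * s⁻¹ := h2
        _ = s * d * s⁻¹ * (t * a * t⁻¹) := by group
    have hDn : T ≤ normalizer (D : Set H) := by
      intro s hs
      rw [mem_normalizer_iff]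
      intro z
      refine ⟨hDT s hs z, fun hz => ?_⟩
      have h1 := hDT s⁻¹ (inv_mem hs) _ hz
      have h2 : s⁻¹ * (s * z * s⁻¹) * s⁻¹⁻¹ = z := by group
      rwa [h2] at h1
    refine h.nmax ⟨D ⊔ T, ?_, ?_⟩
    · intro htop
      -- `N` centralises all `T`-conjugates of `A`
      have hcen : ∀ n ∈ N, ∀ t ∈ T, ∀ a ∈ A, t * a * t⁻¹ * n = n * (t * a * t⁻¹) := by
        intro e he t' ht' a ha
        have h2 : e ∈ ((D ⊔ T : Subgroup H) : Set H) := htop ▸ mem_top e
        rw [coe_mul_of_right_le_normalizer_left D T hDn] at h2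
        obtain ⟨d, hd, t, ht, rfl⟩ := h2
        have h3 : t ∈ N := by
          have := N.mul_mem (N.inv_mem hd.1) he
          simpa using this
        have h4 : t = 1 := eq_one_of_odd hNo h.two h3 ht
        rw [h4]
        simp only [mul_one]
        exact mem_centralizer_iff.1 hd.2 _ ⟨t', ht', a, ha, rfl⟩
      -- their closure is normal in `H`
      let K1 : Subgroup H := closure {z : H | ∃ t ∈ T, ∃ a ∈ A, z = t * a * t⁻¹}
      have hK1T : K1 ≤ T := by
        rw [closure_le]
        rintro _ ⟨t, ht, a, ha, rfl⟩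
        exact T.mul_mem (T.mul_mem ht (h.AT ha)) (T.inv_mem ht)
      have hK1 : K1 ≤ o2 (⊤ : Subgroup H) := by
        refine le_o2 le_top (h.two.to_le hK1T) ?_
        rw [← hNT]
        refine sup_le ?_ ?_
        · intro n hn
          have h1 : n ∈ centralizer (K1 : Set H) := by
            rw [centralizer_closure, mem_centralizer_iff]
            rintro _ ⟨t, ht, a, ha, rfl⟩
            exact hcen n hn t ht a ha
          exact centralizer_le_normalizer _ h1
        · have hconj : ∀ s ∈ T, ∀ k ∈ K1, s * k * s⁻¹ ∈ K1 := by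
            intro s hs k hk
            have h1 : K1 ≤ K1.comap (MulAut.conj s).toMonoidHom := by
              rw [closure_le]
              rintro _ ⟨t, ht, a, ha, rfl⟩
              refine subset_closure ⟨s * t, T.mul_mem hs ht, a, ha, ?_⟩
              change s * (t * a * t⁻¹) * s⁻¹ = _
              group
            exact h1 hk
          intro s hs
          rw [mem_normalizer_iff]
          intro z
          refine ⟨hconj s hs z, fun hz => ?_⟩
          have h1 := hconj s⁻¹ (inv_mem hs) _ hz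
          have h2 : s⁻¹ * (s * z * s⁻¹) * s⁻¹⁻¹ = z := by group
          rwa [h2] at h1
      exact h.lb.nb fun a ha => hK1 (subset_closure ⟨1, one_mem T, a, ha, by group⟩)
    · intro R hTR hR
      have h1 : R ⊓ N ⊔ T = R := by
        apply le_antisymm (sup_le inf_le_left hTR)
        intro r hr
        have h1 : r ∈ N ⊔ T := hNT ▸ mem_top r
        rw [mem_sup_of_normal_left] at h1
        obtain ⟨n, hn, s, hs, rfl⟩ := h1
        refine mul_mem_sup ⟨?_, hn⟩ hs
        have := R.mul_mem hr (R.inv_mem (hTR hs))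
        rwa [mul_inv_cancel_right] at this
      rw [← h1]
      refine sup_le_sup_right ?_ T
      intro e he
      refine ⟨he.2, mem_centralizer_iff.2 ?_⟩
      rintro _ ⟨t, ht, a, ha, rfl⟩
      have h3 : t * a * t⁻¹ ∈ o2 R := (mem_normalizer_iff.1 (le_normalizer_o2 R (hTR ht)) a).1 (h.low R hTR hR ha)
      exact (comm_odd hN hNo he.2 he.1 h3).symm
  · -- `N T < H` : `N` is centralised by `A`
    have hAN : Km A ≤ centralizer (N : Set H) := by
      refine Km_le inferInstance fun a ha => mem_centralizer_iff.2 fun n hn => ?_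
      exact comm_odd hN hNo hn (mem_sup_left hn) (h.low _ le_sup_right hNT ha)
    -- no minimal parabolics in `N T`
    have hP : ∀ P : Subgroup H, IsMinPar T P → P ≤ N ⊔ T → False := by
      intro P hP hPN
      have h4 : P ⊓ N ⊔ T = P := by
        apply le_antisymm (sup_le inf_le_left hP.le)
        intro r hr
        have h1 : r ∈ N ⊔ T := hPN hr
        rw [mem_sup_of_normal_left] at h1
        obtain ⟨n, hn, s, hs, rfl⟩ := h1
        refine mul_mem_sup ⟨?_, hn⟩ hs
        have := P.mul_mem hr (P.inv_mem (hP.le hs))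
        rwa [mul_inv_cancel_right] at this
      have h5 : (P ⊓ N).Normal := by
        rw [← normalizer_eq_top_iff, eq_top_iff, ← hgen]
        refine sup_le ?_ ?_
        · intro k hk
          have h1 : k ∈ centralizer ((P ⊓ N : Subgroup H) : Set H) := by
            rw [mem_centralizer_iff]
            intro z hz
            exact mem_centralizer_iff.1 (hAN hk) z hz.2
          exact centralizer_le_normalizer _ h1
        · intro t ht
          rw [mem_normalizer_iff]
          intro z
          constructor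
          · rintro ⟨hz1, hz2⟩
            exact ⟨P.mul_mem (P.mul_mem (hP.le ht) hz1) (P.inv_mem (hP.le ht)), hN.conj_mem z hz2 t⟩
          · rintro ⟨hz1, hz2⟩
            have h7 : t⁻¹ * (t * z * t⁻¹) * t⁻¹⁻¹ = z := by group
            refine ⟨?_, ?_⟩
            · rw [← h7]
              exact P.mul_mem (P.mul_mem (P.inv_mem (hP.le ht)) hz1) (P.inv_mem (P.inv_mem (hP.le ht)))
            · rw [← h7]
              exact hN.conj_mem _ hz2 t⁻¹
      obtain ⟨m, hm, hPm⟩ := h.fixP P hP
      have h6 : P ⊓ N = ⊥ := h.bot_of_fix h5 hm fun n hn => hPm n hn.1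
      rw [h6, bot_sup_eq] at h4
      exact hP.ne h4
    have hNT' : N ⊔ T ≤ normalizer (T : Set H) :=
      le_of_forall le_sup_right inf_le_right fun P hP1 hP2 => (hP P hP1 hP2).elim
    -- `[N, T] = 1`
    have hTN : T ≤ centralizer (N : Set H) := by
      intro t ht
      rw [mem_centralizer_iff]
      intro n hn
      have h1 : n * t * n⁻¹ * t⁻¹ = 1 := by
        refine eq_one_of_odd hNo h.two ?_ ?_
        · have h2 : n * t * n⁻¹ * t⁻¹ = n * (t * n⁻¹ * t⁻¹) := by group
          rw [h2]
          exact mul_mem hn (hN.conj_mem _ (inv_mem hn) t)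
        · exact mul_mem ((mem_normalizer_iff.1 (hNT' (mem_sup_left hn)) t).1 ht) (inv_mem ht)
      calc n * t = (n * t * n⁻¹ * t⁻¹) * (t * n) := by group
        _ = t * n := by rw [h1, one_mul]
    intro n hn
    rw [mem_center_iff]
    intro g
    have h1 : g ∈ centralizer (N : Set H) := by
      have h2 : Km A ⊔ T ≤ centralizer (N : Set H) := sup_le hAN hTN
      exact h2 (hgen ▸ mem_top g)
    exact (mem_centralizer_iff.1 h1 n hn).symm

end odd

section cop

variable {H : Type u} [Group H] [Finite H] {M : Type v} [Group M] [Finite M] [MulDistribMulAction H M]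

omit [Finite M] in
/-- a vector fixed by `g` of odd order in `[Y, ⟨g⟩]` is trivial -/
theorem eq_one_of_mem (sq : ∀ m : M, m * m = 1) {g : H} (hg : Odd (orderOf g)) {Y : Subgroup M} {w : M}
    (hw : w ∈ closure {w : M | ∃ k ∈ zpowers g, ∃ y ∈ Y, w = (k • y) * y⁻¹}) (hf : g • w = w) : w = 1 := by
  classical
  let _ : CommGroup M := { (inferInstance : Group M) with mul_comm := comm_of_sq sq }
  have : Fintype (zpowers g) := Fintype.ofFinite _
  -- the norm
  let ν : M →* M :=
    { toFun := fun m => ∏ k : zpowers g, (k : H) • m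
      map_one' := by simp
      map_mul' := fun a b => by
        simp only [smul_mul']
        exact Finset.prod_mul_distrib }
  have hν : ∀ (k : H), k ∈ zpowers g → ∀ m : M, ν (k • m) = ν m := by
    intro k hk m
    change ∏ l : zpowers g, (l : H) • (k • m) = ∏ l : zpowers g, (l : H) • m
    refine Fintype.prod_equiv (Equiv.mulRight (⟨k, hk⟩ : zpowers g)) _ _ fun l => ?_
    simp [mul_smul]
  have h1 : ν w = 1 := by
    have h2 : closure {w : M | ∃ k ∈ zpowers g, ∃ y ∈ Y, w = (k • y) * y⁻¹} ≤ ν.ker := by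
      rw [closure_le]
      rintro _ ⟨k, hk, y, -, rfl⟩
      change ν (k • y * y⁻¹) = 1
      rw [map_mul, map_inv, hν k hk, mul_inv_cancel]
    exact h2 hw
  have h3 : ∀ k ∈ zpowers g, k • w = w := by
    intro k hk
    have h4 : zpowers g ≤ MulAction.stabilizer H w := by
      rw [zpowers_le]
      exact hf
    exact h4 hk
  have h5 : ν w = w ^ Nat.card (zpowers g) := by
    have h6 : ∀ l : zpowers g, (l : H) • w = w := fun l => h3 l l.2
    change ∏ l : zpowers g, (l : H) • w = _
    simp only [h6]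
    rw [Finset.prod_const, Finset.card_univ, Nat.card_eq_fintype_card]
  rw [h1, Nat.card_zpowers] at h5
  obtain ⟨k, hk⟩ := hg
  rw [hk, pow_succ, pow_mul, pow_two, sq, one_pow, one_mul] at h5
  exact h5.symm

/-- **LEMMA ZC (c)** -/
theorem com_of (sq : ∀ m : M, m * m = 1) {T : Subgroup H} (hT : IsPGroup 2 T) {g : H} (hg : Odd (orderOf g))
    {Y U : Subgroup M} (gY : ∀ k ∈ zpowers g, ∀ y ∈ Y, k • y ∈ Y) (TY : ∀ t ∈ T, ∀ y ∈ Y, t • y ∈ Y)
    (gU : ∀ k ∈ zpowers g, ∀ y ∈ Y, (k • y) * y⁻¹ ∈ U)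
    (com : ∀ t ∈ T, ∀ k ∈ zpowers g, ∀ u ∈ U, (t * k) • u = (k * t) • u)
    (cY : ∀ y ∈ Y, (∀ t ∈ T, t • y = y) → g • y = y) : ∀ y ∈ Y, g • y = y := by
  classical
  set W : Subgroup M := closure {w : M | ∃ k ∈ zpowers g, ∃ y ∈ Y, w = (k • y) * y⁻¹} with hW
  have hWY : W ≤ Y := by
    rw [hW, closure_le]
    rintro _ ⟨k, hk, y, hy, rfl⟩
    exact mul_mem (gY k hk y hy) (inv_mem hy)
  have hWU : W ≤ U := by
    rw [hW, closure_le]
    rintro _ ⟨k, hk, y, hy, rfl⟩
    exact gU k hk y hy
  have hcomm := comm_of_sq sq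
  -- every generator comes from `W`
  have hgenW : ∀ k ∈ zpowers g, ∀ y ∈ Y, ∃ v ∈ W, (k • y) * y⁻¹ = (k • v) * v⁻¹ := by
    intro k hk y hy
    obtain ⟨m0, h0, h1⟩ := exists_fix_coset (H := H) (M := M) (T := ⊥) (R := zpowers g) sq (by
        rw [relIndex_bot_left, Nat.card_zpowers]
        exact fun h2 => (Nat.not_even_iff_odd.2 hg) (even_iff_two_dvd.2 h2)) (m := y) (fun t ht => by
        rw [mem_bot.1 ht, one_smul]) (I := W) (fun k hk => subset_closure ⟨k, hk, y, hy, rfl⟩)
    refine ⟨y * m0⁻¹, ?_, ?_⟩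
    · have h2 := inv_mem h1
      rwa [mul_inv_rev, inv_inv] at h2
    · rw [smul_mul', smul_inv', h0 k hk, mul_inv_rev, inv_inv]
      group
  have hTW : ∀ t ∈ T, ∀ w ∈ W, t • w ∈ W := by
    intro t ht w hw
    have h1 : W ≤ W.comap (MulDistribMulAction.toMonoidHom M t) := by
      conv_lhs => rw [hW]
      rw [closure_le]
      rintro _ ⟨k, hk, y, hy, rfl⟩
      change t • ((k • y) * y⁻¹) ∈ W
      obtain ⟨v, hv, hkv⟩ := hgenW k hk y hy
      rw [hkv, smul_mul', smul_inv', ← mul_smul, com t ht k hk v (hWU hv), mul_smul]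
      exact subset_closure ⟨k, hk, t • v, TY t ht v (hWY hv), rfl⟩
    exact h1 hw
  by_cases hW1 : W = ⊥
  · intro y hy
    have h1 : (g • y) * y⁻¹ ∈ W := subset_closure ⟨g, mem_zpowers g, y, hy, rfl⟩
    rw [hW1, mem_bot] at h1
    exact mul_inv_eq_one.1 h1
  · exfalso
    obtain ⟨w, hw, hw1, tw⟩ := exists_fix sq hT hTW hW1
    exact hw1 (eq_one_of_mem sq hg hw (cY w (hWY hw) tw))

end cop

end Cfsg.Agent.Omega.KL.StarQ
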