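import Cfsg.Agent.Omega.KL.StarQ.Main

/-!
# LEMMA ZC+ (bb #24701): the odd core with bad parabolics which normalise `Y`

`LB H M T A`, `x` a `T`-fixed vector, `Y` invariant under `N_H(T)` with `C_Y(T)` fixed by `H`.  Every `T`-minimal `P`
fixes `x`, or its elements of odd order centralise `Y`, or `A ≤ O₂(P)` and `P` normalises `Y`; some `T`-minimal `P`
moves `x` and its elements of odd order centralise `Y`.

* `not_top` : `K T ≠ H` for a normal subgroup `K` of odd order;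
* `LB.exists_sysT₀` : `Out` and (if `O(H') = 1`) `SysT`;
* **`exists_of_coreN`** : `SysT`, with `O(H') = 1`.
-/

set_option autoImplicit false

namespace Cfsg.Agent.Omega.KL.StarQ

open Subgroup Cfsg Cfsg.Agent.ZN Cfsg.Agent.ClassTwoFusion.Quad
open Cfsg.Agent.Omega.ML.MinFrame hiding comm_of_sq
open Cfsg.Agent.Omega.ML.Final Cfsg.Agent.Omega.NO3S.EMany.Low
open Cfsg.Agent.Omega.KL.Star.Core
open Cfsg.Agent.MinSimple.VModule (o2_isPGroup o2_le le_o2 le_normalizer_o2 o2_le_of_sylow oddGen oddGen_le oddGen_def)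
open Cfsg.Agent.MinSimple.MinParabolic (IsMinPar le_of_forall)

universe u v

section one

variable {H : Type u} [Group H] [Finite H] {M : Type v} [Group M] [Finite M] [MulDistribMulAction H M]
  {T A : Subgroup H}

omit [Finite H] [Finite M] in
/-- `K T ≠ H` for a normal subgroup `K` of odd order -/
theorem not_top (h : LB H M T A)
    (nmax : ¬ ∃ L : Subgroup H, L ≠ ⊤ ∧ ∀ R : Subgroup H, T ≤ R → R ≠ ⊤ → R ≤ L)
    {N : Subgroup H} (hN : N.Normal) (hNo : Odd (Nat.card N)) : N ⊔ T ≠ ⊤ := by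
  intro hNT
  let D : Subgroup H := N ⊓ centralizer {z : H | ∃ t ∈ T, ∃ a ∈ A, z = t * a * t⁻¹}
  have hDT : ∀ s ∈ T, ∀ d ∈ D, s * d * s⁻¹ ∈ D := by
    intro s hs d hd
    refine ⟨hN.conj_mem d hd.1 s, mem_centralizer_iff.2 ?_⟩
    rintro _ ⟨t, ht, a, ha, rfl⟩
    have h1 := mem_centralizer_iff.1 hd.2 _ ⟨s⁻¹ * t, mul_mem (inv_mem hs) ht, a, ha, rfl⟩
    have h2 := congrArg (fun w => s * w * s⁻¹) h1
    simp only [mul_inv_rev, inv_inv] at h2
    calc t * a * t⁻¹ * (s * d * s⁻¹) = s * (s⁻¹ * t * a * (t⁻¹ * s) * d) * s⁻¹ := by group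
      _ = s * (d * (s⁻¹ * t * a * (t⁻¹ * s))) * s⁻¹ := h2
      _ = s * d * s⁻¹ * (t * a * t⁻¹) := by group
  have hDn : T ≤ normalizer (D : Set H) := by
    intro s hs
    rw [mem_normalizer_iff]
    intro z
    refine ⟨fun hz => hDT s hs z hz, fun hz => ?_⟩
    have h1 := hDT s⁻¹ (inv_mem hs) _ hz
    have h2 : s⁻¹ * (s * z * s⁻¹) * s⁻¹⁻¹ = z := by group
    rwa [h2] at h1
  refine nmax ⟨D ⊔ T, ?_, ?_⟩
  · intro htop
    have hcen : ∀ n ∈ N, ∀ t ∈ T, ∀ a ∈ A, t * a * t⁻¹ * n = n * (t * a * t⁻¹) := by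
      intro e he t' ht' a ha
      have h2 : e ∈ ((D ⊔ T : Subgroup H) : Set H) := htop ▸ mem_top e
      rw [coe_mul_of_right_le_normalizer_left D T hDn] at h2
      obtain ⟨d, hd, t, ht, rfl⟩ := h2
      have h3 : t ∈ N := by
        have := N.mul_mem (N.inv_mem hd.1) he
        simpa using this
      have h4 : t = 1 := eq_one_of_odd hNo h.two h3 ht
      rw [h4]
      simp only [mul_one]
      exact mem_centralizer_iff.1 hd.2 _ ⟨t', ht', a, ha, rfl⟩
    let K1 : Subgroup H := closure {z : H | ∃ t ∈ T, ∃ a ∈ A, z = t * a * t⁻¹}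
    have hK1T : K1 ≤ T := by
      rw [closure_le]
      rintro _ ⟨t, ht, a, ha, rfl⟩
      exact T.mul_mem (T.mul_mem ht (h.BT ha)) (T.inv_mem ht)
    have hK1 : K1 ≤ o2 (⊤ : Subgroup H) := by
      refine le_o2 le_top (h.two.to_le hK1T) ?_
      rw [← hNT]
      refine sup_le ?_ ?_
      · intro n hn
        have h1 : n ∈ centralizer (K1 : Set H) := by
          rw [centralizer_closure, mem_centralizer_iff]
          rintro _ ⟨t, ht, a, ha, rfl⟩
          exact hcen n hn t ht a ha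
        exact centralizer_le_normalizer _ h1
      · have hconj : ∀ s ∈ T, ∀ k ∈ K1, s * k * s⁻¹ ∈ K1 := by
          intro s hs k hk
          have h1 : K1 ≤ K1.comap (MulAut.conj s).toMonoidHom := by
            rw [closure_le]
            rintro _ ⟨t, ht, a, ha, rfl⟩
            refine subset_closure ⟨s * t, T.mul_mem hs ht, a, ha, ?_⟩
            change s * (t * a * t⁻¹) * s⁻¹ = _
            group
          exact h1 hk
        intro s hs
        rw [mem_normalizer_iff]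
        intro z
        refine ⟨fun hz => hconj s hs z hz, fun hz => ?_⟩
        have h1 := hconj s⁻¹ (inv_mem hs) _ hz
        have h2 : s⁻¹ * (s * z * s⁻¹) * s⁻¹⁻¹ = z := by group
        rwa [h2] at h1
    exact h.nb fun a ha => hK1 (subset_closure ⟨1, one_mem T, a, ha, by group⟩)
  · intro R hTR hR
    have h1 : R ⊓ N ⊔ T = R := by
      apply le_antisymm (sup_le inf_le_left hTR)
      intro r hr
      have h1 : r ∈ N ⊔ T := hNT ▸ mem_top r
      rw [mem_sup_of_normal_left] at h1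
      obtain ⟨n, hn, s, hs, rfl⟩ := h1
      refine mul_mem_sup ⟨?_, hn⟩ hs
      have := R.mul_mem hr (R.inv_mem (hTR hs))
      rwa [mul_inv_cancel_right] at this
    rw [← h1]
    refine sup_le_sup_right ?_ T
    intro e he
    refine ⟨he.2, mem_centralizer_iff.2 ?_⟩
    rintro _ ⟨t, ht, a, ha, rfl⟩
    have h3 : t * a * t⁻¹ ∈ o2 R := (mem_normalizer_iff.1 (le_normalizer_o2 R (hTR ht)) a).1 (h.low R hTR hR ha)
    exact (comm_odd hN hNo he.2 he.1 h3).symm

omit [Finite M] in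
/-- `⟨A^H⟩` centralises a normal subgroup of odd order -/
theorem Km_le_centralizer (h : LB H M T A)
    (nmax : ¬ ∃ L : Subgroup H, L ≠ ⊤ ∧ ∀ R : Subgroup H, T ≤ R → R ≠ ⊤ → R ≤ L)
    {N : Subgroup H} (hN : N.Normal) (hNo : Odd (Nat.card N)) : Km A ≤ centralizer (N : Set H) :=
  Km_le inferInstance fun _ ha => mem_centralizer_iff.2 fun _ hn =>
    comm_odd hN hNo hn (mem_sup_left hn) (h.low _ le_sup_right (not_top h nmax hN hNo) ha)

omit [Finite M] in
/-- for `P ≤ N T` the subgroup `P ∩ N` is normal, and `P = (P ∩ N) T` -/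
theorem inf_normal (h : LB H M T A)
    (nmax : ¬ ∃ L : Subgroup H, L ≠ ⊤ ∧ ∀ R : Subgroup H, T ≤ R → R ≠ ⊤ → R ≤ L)
    {N P : Subgroup H} (hN : N.Normal) (hNo : Odd (Nat.card N)) (hTP : T ≤ P) (hP : P ≤ N ⊔ T) :
    (P ⊓ N).Normal ∧ P ⊓ N ⊔ T = P := by
  have hAN := Km_le_centralizer h nmax hN hNo
  constructor
  · rw [← normalizer_eq_top_iff, eq_top_iff, ← h.gen]
    refine sup_le ?_ ?_
    · intro k hk
      have h1 : k ∈ centralizer ((P ⊓ N : Subgroup H) : Set H) := by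
        rw [mem_centralizer_iff]
        intro z hz
        exact mem_centralizer_iff.1 (hAN hk) z hz.2
      exact centralizer_le_normalizer _ h1
    · intro t ht
      rw [mem_normalizer_iff]
      intro z
      constructor
      · rintro ⟨hz1, hz2⟩
        exact ⟨P.mul_mem (P.mul_mem (hTP ht) hz1) (P.inv_mem (hTP ht)), hN.conj_mem z hz2 t⟩
      · rintro ⟨hz1, hz2⟩
        have h7 : t⁻¹ * (t * z * t⁻¹) * t⁻¹⁻¹ = z := by group
        refine ⟨?_, ?_⟩
        · rw [← h7]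
          exact P.mul_mem (P.mul_mem (P.inv_mem (hTP ht)) hz1) (P.inv_mem (P.inv_mem (hTP ht)))
        · rw [← h7]
          exact hN.conj_mem _ hz2 t⁻¹
  · apply le_antisymm (sup_le inf_le_left hTP)
    intro r hr
    have h1 : r ∈ N ⊔ T := hP hr
    rw [mem_sup_of_normal_left] at h1
    obtain ⟨n, hn, s, hs, rfl⟩ := h1
    refine mul_mem_sup ⟨?_, hn⟩ hs
    have := P.mul_mem hr (P.inv_mem (hTP hs))
    rwa [mul_inv_cancel_right] at this

omit [Finite H] [Finite M] in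
/-- `H` faithful and irreducible: a normal subgroup which fixes a vector is trivial -/
theorem bot_of_fix (faith : ∀ h : H, (∀ m : M, h • m = m) → h = 1)
    (irr : ∀ W : Subgroup M, (∀ h : H, ∀ w ∈ W, h • w ∈ W) → W = ⊥ ∨ W = ⊤) {N : Subgroup H} (hN : N.Normal)
    {m : M} (hm : m ≠ 1) (hf : ∀ n ∈ N, n • m = m) : N = ⊥ := by
  have h1 : cv M (N : Set H) = ⊤ := by
    refine (irr _ ?_).resolve_left ?_
    · intro g w hw n hn
      have h2 := hw (g⁻¹ * n * g) (by simpa using hN.conj_mem n hn g⁻¹)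
      rwa [mul_smul, mul_smul, inv_smul_eq_iff] at h2
    · intro h2
      have h3 : m ∈ cv M (N : Set H) := fun n hn => hf n hn
      rw [h2, mem_bot] at h3
      exact hm h3
  rw [eq_bot_iff]
  intro n hn
  exact mem_bot.2 (faith n fun w => (h1 ▸ mem_top w : w ∈ cv M (N : Set H)) n hn)

end one

section two

variable {H : Type u} [Group H] [Finite H] {M : Type v} [Group M] [Finite M] [MulDistribMulAction H M]
  {T B : Subgroup H}

/-- **`SysT` from `LB`** and two vectors of `U¹ = [M, ⟨B^H⟩]`; a `T`-minimal `P` fixes a vector moved by `H`, or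
`B ≤ O₂(P)` -/
theorem exists_sysT₀ (h : LB H M T B) (hM : MLK.{u, v}) {x y : M} (tx : ∀ t ∈ T, t • x = x)
    (ty : ∀ t ∈ T, t • y = y) (hxU : x ∈ cmm M B) (hyU : y ∈ cmm M B) (hy : ¬ ∀ g : H, g • y = y)
    (mov : ∃ R : Subgroup H, T ≤ R ∧ (∃ p ∈ R, p • x ≠ x) ∧ ∀ p ∈ R, p • y = y)
    (nP : ∀ P : Subgroup H, IsMinPar T P → B ≤ o2 P ∨
      ∃ m ∈ cmm M B, (¬ ∀ g : H, g • m = m) ∧ ∀ p ∈ P, p • m = m) :
    ∃ (H' : Type u) (_ : Group H') (_ : Finite H') (N : Type v) (_ : Group N) (_ : Finite N)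
      (_ : MulDistribMulAction H' N) (π : H →* H') (f : ↥(cmm M B) →* N) (A' : Subgroup H'),
      Out H M T B H' N π f A' ∧
      (¬ ∃ L : Subgroup H', L ≠ ⊤ ∧ ∀ R : Subgroup H', T.map π ≤ R → R ≠ ⊤ → R ≤ L) ∧
      f ⟨x, hxU⟩ ≠ 1 ∧ f ⟨y, hyU⟩ ≠ 1 ∧
      ((∀ K : Subgroup H', K.Normal → Odd (Nat.card K) → K = ⊥) →
        ML.Ex.Two.SysT H' N (T.map π) A' (f ⟨x, hxU⟩) (f ⟨y, hyU⟩)) := by
  have hx : ¬ ∀ g : H, g • x = x := by
    obtain ⟨P, -, ⟨p, -, hp⟩, -⟩ := mov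
    exact fun hc => hp (hc p)
  obtain ⟨H', _, _, N, _, _, _, π, f, A', o⟩ := h.exists_out hM tx hx hxU
  refine ⟨H', inferInstance, inferInstance, N, inferInstance, inferInstance, inferInstance, π, f, A', o, ?_⟩
  -- images of vectors
  have him : ∀ {m : M} (hm : m ∈ cmm M B) {g : H}, g • m = m → π g • f ⟨m, hm⟩ = f ⟨m, hm⟩ := by
    intro m hm g hg
    rw [← o.eqv g ⟨m, hm⟩]
    exact congrArg f (Subtype.ext hg)
  have hne : ∀ {m : M} (hm : m ∈ cmm M B), (∀ t ∈ T, t • m = m) → (¬ ∀ g : H, g • m = m) → f ⟨m, hm⟩ ≠ 1 := by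
    intro m hm tm hc h1
    exact hc fun g => h.fix_of_cvKm tm ((o.ker _).1 h1) g
  have hback : ∀ {m : M} (hm : m ∈ cmm M B), (∀ t ∈ T, t • m = m) → ∀ R : Subgroup H, T ≤ R →
      (∀ g ∈ R, π g • f ⟨m, hm⟩ = f ⟨m, hm⟩) → ∀ g ∈ R, g • m = m := by
    intro m hm tm R hTR hR
    refine h.fix_of_mod tm hTR (I := cv M (Km B : Set H)) (fun w hw tw g _ => h.fix_of_cvKm tw hw g) fun g hg => ?_
    have h1 := hR g hg
    rw [← o.eqv g ⟨m, hm⟩, ← mul_inv_eq_one, ← map_inv, ← map_mul, o.ker] at h1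
    exact h1
  have x1 := hne hxU tx hx
  have y1 := hne hyU ty hy
  have htx : ∀ t ∈ T.map π, t • f ⟨x, hxU⟩ = f ⟨x, hxU⟩ := by
    rintro _ ⟨t, ht, rfl⟩
    exact him hxU (tx t ht)
  have hty : ∀ t ∈ T.map π, t • f ⟨y, hyU⟩ = f ⟨y, hyU⟩ := by
    rintro _ ⟨t, ht, rfl⟩
    exact him hyU (ty t ht)
  obtain ⟨R, hTR, ⟨p, hp, hpx⟩, hRy⟩ := mov
  have hRx : ∃ p ∈ R.map π, p • f ⟨x, hxU⟩ ≠ f ⟨x, hxU⟩ := by
    by_contra hc
    push Not at hc
    exact hpx (hback hxU tx R hTR (fun g hg => hc _ ⟨g, hg, rfl⟩) p hp)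
  have hRy' : ∀ p ∈ R.map π, p • f ⟨y, hyU⟩ = f ⟨y, hyU⟩ := by
    rintro _ ⟨q, hq, rfl⟩
    exact him hyU (hRy q hq)
  have hxy : f ⟨x, hxU⟩ ≠ f ⟨y, hyU⟩ := by
    intro he
    obtain ⟨q, hq, hqx⟩ := hRx
    rw [he] at hqx
    exact hqx (hRy' q hq)
  -- no vector is fixed by `H'`
  have hnofix : ∀ m : N, m ≠ 1 → ¬ ∀ g : H', g • m = m := by
    intro m hm hc
    have h1 : (⊤ : Subgroup H') = ⊥ := bot_of_fix o.faith o.irr inferInstance hm fun g _ => hc g
    apply o.lb.B1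
    rw [eq_bot_iff, ← h1]
    exact le_top
  have nmax : ¬ ∃ L : Subgroup H', L ≠ ⊤ ∧ ∀ R : Subgroup H', T.map π ≤ R → R ≠ ⊤ → R ≤ L := by
    rintro ⟨L, hL, hLm⟩
    by_cases hn : (⊤ : Subgroup H') ≤ normalizer ((T.map π : Subgroup H') : Set H')
    · exact o.lb.nb (o.lb.BT.trans (le_o2 le_top o.lb.two hn))
    · obtain ⟨P, hP, hPt⟩ := KL.GenTool.exists_minPar_map π o.πs
        (P' := ⊤) ⟨le_top, hn, L, lt_top_iff_ne_top.2 hL, fun K hK hlt => hLm K hK hlt.ne⟩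
      rcases nP P hP with h1 | ⟨m, hm, hmm, hPm⟩
      · apply o.lb.nb
        have h2 := (map_mono (f := π) h1).trans (KL.GenTool.o2_map_le π P)
        rw [hPt] at h2
        exact o.AB.trans h2
      · refine hnofix (f ⟨m, hm⟩) (hne hm (fun t ht => hPm t (hP.le ht)) hmm) fun g => ?_
        obtain ⟨q, hq, rfl⟩ : g ∈ P.map π := hPt ▸ mem_top g
        exact him hm (hPm q hq)
  refine ⟨nmax, x1, y1, fun hodd => ?_⟩
  exact
    { x1 := x1
      y1 := y1
      tx := htx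
      ty := hty
      mv := ⟨R.map π, map_mono hTR, hRy', hRx⟩
      sq := o.lb.sq
      faith := o.faith
      irr := o.irr
      two := o.lb.two
      syl := o.lb.syl
      AT := o.lb.BT
      el := o.lb.el
      four := four_le o.lb.sq o.faith o.irr o.lb htx hty x1 y1 hxy
      exact := o.lb.exact
      atom := o.lb.atom
      low := o.lb.low
      nmax := nmax
      odd := hodd
      KH := o.lb.KH }

end two

end Cfsg.Agent.Omega.KL.StarQ
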